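import Groth.Agent.W7ExtZero.Basic
import Groth.Agent.QC.AffineSpec
import Groth.Agent.RefStalk.Restrict
import Groth.Prelude.Def_FlatMod2
import Mathlib

/-!
Injective modules on locally Noetherian schemes: sections over opens of an affine open are injective
modules over its ring, and stalks are injective.
-/

set_option autoImplicit false
set_option backward.isDefEq.respectTransparency false
set_option linter.style.haveILetI false

universe u

open CategoryTheory CategoryTheory.Limits AlgebraicGeometry TopologicalSpace Opposite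

noncomputable section

namespace Groth.Agent.W7InjStalk

variable {X : Scheme.{u}}

/-- sections over a smaller open as a module over the sections over a bigger one -/
abbrev secModule (M : X.Modules) {V U : X.Opens} (h : V ≤ U) : Module Γ(X, U) Γ(M, V) :=
  Module.compHom Γ(M, V) (X.presheaf.map (homOfLE h).op).hom

theorem injective_secModule (I : X.Modules) [Injective I] {U V : X.Opens} (hU : IsAffineOpen U)
    (h : V ≤ U) :
    letI := secModule I h
    Module.Injective Γ(X, U) Γ(I, V) := by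
  let g : V.toScheme ⟶ Spec Γ(X, U) := X.homOfLE h ≫ hU.isoSpec.hom
  haveI := W7ExtZero.injective_restrict V I inferInstance
  haveI : Injective ((Scheme.Modules.pushforward g).obj (I.restrict V.ι)) :=
    Injective.injective_of_adjoint (Scheme.Modules.restrictAdjunction g) _
  haveI : PreservesFiniteLimits (tilde.functor Γ(X, U)) := QC.tilde_preservesFiniteLimits
  let M := moduleSpecΓFunctor.obj ((Scheme.Modules.pushforward g).obj (I.restrict V.ι))
  haveI hM : Injective M := Injective.injective_of_adjoint tilde.adjunction _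
  haveI : Injective (ModuleCat.of Γ(X, U) M) := hM
  haveI hMi : Module.Injective Γ(X, U) M := Module.injective_module_of_injective_object Γ(X, U) M
  letI := secModule I h
  have hV : V.ι ''ᵁ (g ⁻¹ᵁ ⊤) = V := V.ι_image_top
  let e : M ≃+ Γ(I, V) := (I.presheaf.mapIso (eqToIso (congrArg op hV))).addCommGroupIsoToAddEquiv
  refine Module.Baer.injective (Module.Baer.of_equiv (R := Γ(X, U))
    ({ e with map_smul' := fun r m => ?_ } : M ≃ₗ[Γ(X, U)] Γ(I, V)) (Module.Baer.of_injective hMi))
  let m' : Γ(I, V.ι ''ᵁ (g ⁻¹ᵁ ⊤)) := m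
  change I.presheaf.map (homOfLE hV.ge).op
      ((V.ι.appIso _).inv (g.app ⊤ ((Spec Γ(X, U)).presheaf.map (homOfLE le_top).op
        ((Scheme.ΓSpecIso Γ(X, U)).inv r))) • m') =
    X.presheaf.map (homOfLE h).op r • I.presheaf.map (homOfLE hV.ge).op m'
  rw [Scheme.Modules.map_smul]
  congr 1
  have e' : ((Scheme.ΓSpecIso Γ(X, U)).inv ≫ (Spec Γ(X, U)).presheaf.map (homOfLE le_top).op ≫
      g.app ⊤ ≫ (V.ι.appIso _).inv) ≫ X.presheaf.map (homOfLE hV.ge).op =
      X.presheaf.map (homOfLE h).op := by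
    simp only [g, Scheme.Hom.comp_app, Scheme.Opens.ι_appIso, Iso.refl_inv]
    simp [IsAffineOpen.isoSpec_hom_appTop, Scheme.homOfLE_appTop, ← Functor.map_comp, Scheme.Opens.topIso]
    erw [Category.id_comp, ← Functor.map_comp]
    rfl
  exact congrArg (fun q : Γ(X, U) ⟶ Γ(X, V) => q.hom r) e'

section

variable (I : X.Modules) {U : X.Opens} (x : X) (hxU : x ∈ U)

lemma germ_sec_smul {V : X.Opens} (hV : V ≤ U) (hx : x ∈ V) (r : Γ(X, U)) (s : Γ(I, V)) :
    I.presheaf.germ V x hx (letI := secModule I hV; r • s) =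
      X.presheaf.germ U x hxU r • I.presheaf.germ V x hx s := by
  refine (Mero.germ_smul I V x hx (X.presheaf.map (homOfLE hV).op r) s).trans ?_
  rw [TopCat.Presheaf.germ_res_apply]

lemma res_sec_smul {V W : X.Opens} (hV : V ≤ U) (hW : W ≤ V) (r : Γ(X, U)) (s : Γ(I, V)) :
    I.presheaf.map (homOfLE hW).op (letI := secModule I hV; r • s) =
      (letI := secModule I (hW.trans hV); r • I.presheaf.map (homOfLE hW).op s) := by
  refine (Scheme.Modules.map_smul I (homOfLE hW) (X.presheaf.map (homOfLE hV).op r) s).trans ?_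
  rw [← ConcreteCategory.comp_apply, ← Functor.map_comp]
  rfl

def restrictₗ {V W : X.Opens} (hV : V ≤ U) (hW : W ≤ V) :
    letI := secModule I hV
    letI := secModule I (hW.trans hV)
    Γ(I, V) →ₗ[Γ(X, U)] Γ(I, W) :=
  letI := secModule I hV
  letI := secModule I (hW.trans hV)
  { toFun := I.presheaf.map (homOfLE hW).op
    map_add' := map_add _
    map_smul' := res_sec_smul I hV hW }

include hxU in
/-- A finitely generated family of sections with zero germs vanishes near the point. -/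
lemma exists_res_eq_zero {R : Type u} [AddCommGroup R] [Module Γ(X, U) R] (K : Submodule Γ(X, U) R)
    (hK : K.FG) {V : X.Opens} (hV : V ≤ U) (hx : x ∈ V)
    (ψ : letI := secModule I hV; R →ₗ[Γ(X, U)] Γ(I, V))
    (h0 : ∀ k ∈ K, I.presheaf.germ V x hx (ψ k) = 0) :
    ∃ (W : X.Opens) (hW : W ≤ V), x ∈ W ∧ ∀ k ∈ K, I.presheaf.map (homOfLE hW).op (ψ k) = 0 := by
  induction K, hK using Submodule.fg_induction with
  | singleton k =>
    obtain ⟨W, hxW, i₁, i₂, e⟩ := TopCat.Presheaf.germ_eq I.presheaf x hx hx (ψ k) 0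
      ((h0 k (Submodule.mem_span_singleton_self k)).trans (map_zero _).symm)
    refine ⟨W, i₁.le, hxW, fun y hy => ?_⟩
    obtain ⟨r, rfl⟩ := Submodule.mem_span_singleton.mp hy
    letI := secModule I hV
    letI := secModule I (i₁.le.trans hV)
    rw [map_smul]
    refine (res_sec_smul I hV i₁.le r (ψ k)).trans ?_
    have e' : I.presheaf.map (homOfLE i₁.le).op (ψ k) = 0 := e.trans (map_zero _)
    rw [e', smul_zero]
  | sup K₁ K₂ _ _ ih₁ ih₂ =>
    obtain ⟨W₁, h₁, x₁, e₁⟩ := ih₁ fun k hk => h0 k (Submodule.mem_sup_left hk)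
    obtain ⟨W₂, h₂, x₂, e₂⟩ := ih₂ fun k hk => h0 k (Submodule.mem_sup_right hk)
    refine ⟨W₁ ⊓ W₂, inf_le_left.trans h₁, ⟨x₁, x₂⟩, fun y hy => ?_⟩
    obtain ⟨a, ha, b, hb, rfl⟩ := Submodule.mem_sup.mp hy
    rw [map_add, map_add]
    have ha' := congrArg (I.presheaf.map (homOfLE (inf_le_left : W₁ ⊓ W₂ ≤ W₁)).op) (e₁ a ha)
    have hb' := congrArg (I.presheaf.map (homOfLE (inf_le_right : W₁ ⊓ W₂ ≤ W₂)).op) (e₂ b hb)
    rw [map_zero, ← ConcreteCategory.comp_apply, ← Functor.map_comp] at ha' hb'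
    exact (congrArg₂ (· + ·) ha' hb').trans (add_zero 0)

end

/-- Stalks of an injective module on a locally Noetherian scheme are injective. -/
theorem injective_stalk [IsLocallyNoetherian X] (I : X.Modules) [Injective I] (x : X) :
    Module.Injective (X.presheaf.stalk x) (I.presheaf.stalk x) := by
  obtain ⟨U, hU, hxU, -⟩ := exists_isAffineOpen_mem_and_subset (Opens.mem_top x)
  haveI : IsNoetherianRing Γ(X, U) := IsLocallyNoetherian.component_noetherian ⟨U, hU⟩
  letI := TopCat.Presheaf.algebra_section_stalk X.presheaf (U := U) ⟨x, hxU⟩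
  have hloc : IsLocalization (hU.primeIdealOf ⟨x, hxU⟩).asIdeal.primeCompl (X.presheaf.stalk x) :=
    hU.isLocalization_stalk ⟨x, hxU⟩
  let ι : Γ(X, U) →+* X.presheaf.stalk x := algebraMap _ _
  refine Module.Baer.injective fun 𝔞 φ => ?_
  let a : Ideal Γ(X, U) := 𝔞.comap ι
  obtain ⟨n, c, hc⟩ := Submodule.fg_iff_exists_fin_generating_family.mp (IsNoetherian.noetherian a)
  have hmem : ∀ i, c i ∈ a := fun i => hc ▸ Submodule.subset_span ⟨i, rfl⟩
  choose W hW s hs using fun i : Fin n =>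
    TopCat.Presheaf.exists_germ_eq I.presheaf (φ ⟨ι (c i), hmem i⟩)
  obtain ⟨V, hV, hxV, hle⟩ : ∃ (V : X.Opens) (_ : V ≤ U), x ∈ V ∧ ∀ i, V ≤ W i :=
    ⟨U ⊓ ⟨_, isOpen_iInter_of_finite fun i => (W i).2⟩, inf_le_left,
      ⟨hxU, Set.mem_iInter.mpr hW⟩, fun i => inf_le_right.trans (Set.iInter_subset _ i)⟩
  letI := secModule I hV
  let s' : Fin n → Γ(I, V) := fun i => I.presheaf.map (homOfLE (hle i)).op (s i)
  have hs' : ∀ i, I.presheaf.germ V x hxV (s' i) = φ ⟨ι (c i), hmem i⟩ := fun i =>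
    (TopCat.Presheaf.germ_res_apply _ _ x hxV (s i)).trans (hs i)
  let P : (Fin n → Γ(X, U)) →ₗ[Γ(X, U)] a :=
    LinearMap.codRestrict a (Fintype.linearCombination Γ(X, U) c) fun v => by
      rw [Fintype.linearCombination_apply]
      exact sum_mem fun i _ => a.mul_mem_left _ (hmem i)
  have hP : Function.Surjective P := by
    rintro ⟨y, hy⟩
    obtain ⟨v, hv⟩ := (Submodule.mem_span_range_iff_exists_fun _).mp (hc.symm ▸ hy : y ∈ Submodule.span _ (Set.range c))
    exact ⟨v, Subtype.ext ((Fintype.linearCombination_apply _ _ _).trans hv)⟩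
  let ψ : (Fin n → Γ(X, U)) →ₗ[Γ(X, U)] Γ(I, V) := Fintype.linearCombination Γ(X, U) s'
  have hψ : ∀ v, I.presheaf.germ V x hxV (ψ v) = φ ⟨ι (P v).1, (P v).2⟩ := by
    intro v
    have he : (⟨ι (P v).1, (P v).2⟩ : 𝔞) = ∑ i, ι (v i) • (⟨ι (c i), hmem i⟩ : 𝔞) := by
      apply Subtype.ext
      simp [P, Fintype.linearCombination_apply, map_sum]
    rw [he, map_sum]
    change I.presheaf.germ V x hxV (Fintype.linearCombination Γ(X, U) s' v) = _
    rw [Fintype.linearCombination_apply, map_sum]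
    refine Finset.sum_congr rfl fun i _ => ?_
    refine (germ_sec_smul I x hxU hV hxV (v i) (s' i)).trans ?_
    rw [hs' i, φ.map_smul]
    rfl
  obtain ⟨W', hW', hxW', hker⟩ := exists_res_eq_zero I x hxU (LinearMap.ker P)
    (IsNoetherian.noetherian _) hV hxV ψ fun k hk => by
      rw [hψ]
      have hz : (⟨ι (P k).1, (P k).2⟩ : 𝔞) = 0 := Subtype.ext (by
        rw [LinearMap.mem_ker.mp hk]; exact map_zero ι)
      rw [hz, map_zero]
  letI := secModule I (hW'.trans hV)
  let ψ' : a →ₗ[Γ(X, U)] Γ(I, W') :=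
    ((LinearMap.ker P).liftQ ((restrictₗ I hV hW').comp ψ) hker).comp
      (LinearMap.quotKerEquivOfSurjective P hP).symm.toLinearMap
  haveI := injective_secModule I hU (hW'.trans hV)
  obtain ⟨g, hg⟩ := Module.Baer.of_injective (R := Γ(X, U)) this a ψ'
  have hgerm : ∀ y : a, φ ⟨ι y.1, y.2⟩ = ι y.1 • I.presheaf.germ W' x hxW' (g 1) := by
    intro y
    obtain ⟨v, rfl⟩ := hP y
    rw [← hψ v, show ι (P v).1 • I.presheaf.germ W' x hxW' (g 1) =
        I.presheaf.germ W' x hxW' (g (P v).1) by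
      refine (germ_sec_smul I x hxU (hW'.trans hV) hxW' (P v).1 (g 1)).symm.trans ?_
      rw [← map_smul, smul_eq_mul, mul_one]]
    rw [hg (P v).1 (P v).2]
    have hq : (LinearMap.quotKerEquivOfSurjective P hP).symm (P v) =
        Submodule.Quotient.mk v := (LinearEquiv.symm_apply_eq _).mpr rfl
    refine Eq.trans ?_ (congrArg (fun q => I.presheaf.germ W' x hxW'
      ((LinearMap.ker P).liftQ ((restrictₗ I hV hW').comp ψ) hker q)) hq).symm
    exact (TopCat.Presheaf.germ_res_apply _ _ x hxW' _).symm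
  refine ⟨LinearMap.toSpanSingleton _ _ (I.presheaf.germ W' x hxW' (g 1)), fun z hz => ?_⟩
  obtain ⟨⟨r, t⟩, hrt⟩ := @IsLocalization.surj _ _ _ _ _ _ hloc z
  have hr : r ∈ a := by
    change ι r ∈ 𝔞
    rw [show ι r = z * ι t.1 from hrt.symm]
    exact 𝔞.mul_mem_right _ hz
  apply (IsLocalization.map_units (X.presheaf.stalk x) t).smul_left_cancel.mp
  rw [LinearMap.toSpanSingleton_apply, smul_smul, ← φ.map_smul]
  have hz' : algebraMap Γ(X, U) (X.presheaf.stalk x) t.1 * z = ι r := (mul_comm _ _).trans hrt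
  rw [hz']
  refine (hgerm ⟨r, hr⟩).symm.trans (congrArg φ (Subtype.ext ?_))
  exact hz'.symm

end Groth.Agent.W7InjStalk
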